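import Mathlib.GroupTheory.Sylow
import Cfsg.Prelude.Def_Transfer
import Cfsg.Agent.Lib.Cores.Basic
import Cfsg.Agent.Lib.SmallGroups.Sylow
import Mathlib.GroupTheory.Focal

/-!
# Centralizers with normal 2-complements and fusion in a Sylow 2-subgroup

If `v` is an involution central in `S` and `C(v)` has a normal 2-complement, then `C(v) = S K`
with `K` of odd order, so that fusion in `S` by elements of `C(v)` is induced by `S`.
-/

set_option autoImplicit false
set_option linter.style.haveILetI false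

namespace Cfsg.Agent.Lib.CNilp98

open Subgroup

universe u

variable {G : Type u} [Group G]

/-- All centralisers of involutions have normal 2-complements. -/
def InvCentNilp (G : Type u) [Group G] : Prop :=
  ∀ t : G, orderOf t = 2 → Cfsg.HasNormalPComplement 2 ↥(centralizer ({t} : Set G))

theorem mem_centralizer_iff_commute {v x : G} :
    x ∈ centralizer ({v} : Set G) ↔ x * v = v * x := mem_centralizer_singleton_iff

variable [Finite G] {S : Sylow 2 G}

/-- A normal odd complement of `S` in `C(v)`. -/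
theorem exists_core (hI : InvCentNilp G) {v : G} (hv : orderOf v = 2)
    (hvc : ∀ s ∈ (S : Subgroup G), s * v = v * s) :
    ∃ K : Subgroup G, K ≤ centralizer ({v} : Set G) ∧ Odd (Nat.card ↥K) ∧
      (∀ c ∈ centralizer ({v} : Set G), ∀ k ∈ K, c * k * c⁻¹ ∈ K) ∧
      ∀ c ∈ centralizer ({v} : Set G), ∃ t ∈ (S : Subgroup G), ∃ k ∈ K, c = t * k := by
  haveI : Fact (Nat.Prime 2) := ⟨Nat.prime_two⟩
  set C := centralizer ({v} : Set G) with hC
  obtain ⟨P, N, hN, hNP⟩ := hI v hv
  haveI := hN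
  have hSC : (S : Subgroup G) ≤ C := fun s hs => mem_centralizer_singleton_iff.2 (hvc s hs)
  let SC : Sylow 2 ↥C := S.subtype hSC
  have hSCeq : (SC : Subgroup ↥C) = (S : Subgroup G).subgroupOf C := rfl
  have hodd : (Nat.card ↥N).Coprime 2 := by
    rw [← hNP.index_eq_card]
    exact (Nat.prime_two.coprime_iff_not_dvd.2 (Sylow.not_dvd_index P)).symm
  have hcomp : N.IsComplement' (SC : Subgroup ↥C) := by
    apply isComplement'_of_coprime
    · rw [show Nat.card ↥(SC : Subgroup ↥C) = Nat.card ↥(P : Subgroup ↥C) from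
        Nat.card_congr (SC.equiv P).toEquiv, hNP.card_mul_card]
    · obtain ⟨j, hj⟩ := SC.2.exists_card_eq
      rw [hj]
      exact hodd.pow_right j
  refine ⟨N.map C.subtype, map_subtype_le _, ?_, ?_, ?_⟩
  · rw [card_map_of_injective (f := C.subtype) C.subtype_injective]
    exact Nat.coprime_two_right.1 hodd
  · rintro c hc _ ⟨k, hk, rfl⟩
    exact ⟨⟨c, hc⟩ * k * ⟨c, hc⟩⁻¹, hN.conj_mem k hk _, rfl⟩
  · intro c hc
    obtain ⟨⟨t, k⟩, htk⟩ := hcomp.symm.2 ⟨c, hc⟩
    exact ⟨((t : ↥C) : G), t.2, ((k : ↥C) : G), ⟨k, k.2, rfl⟩, congrArg Subtype.val htk.symm⟩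

theorem inf_core_eq_one {K : Subgroup G} (hK : Odd (Nat.card ↥K)) {x : G} (hx : x ∈ K)
    (hxS : x ∈ (S : Subgroup G)) : x = 1 := by
  obtain ⟨j, hj⟩ := S.2.exists_card_eq
  exact orderOf_eq_one_iff.1 (Nat.eq_one_of_dvd_coprimes
    ((Nat.coprime_two_right.2 hK).pow_right j) (orderOf_dvd_natCard K hx)
    (hj ▸ orderOf_dvd_natCard (S : Subgroup G) hxS))

/-- Fusion in `S` by elements of `C(v)` is induced by `S`. -/
theorem exists_conj_in_sylow (hI : InvCentNilp G) {v : G} (hv : orderOf v = 2)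
    (hvc : ∀ s ∈ (S : Subgroup G), s * v = v * s) {c s : G}
    (hc : c ∈ centralizer ({v} : Set G)) (hs : s ∈ (S : Subgroup G))
    (hcs : c * s * c⁻¹ ∈ (S : Subgroup G)) :
    ∃ t ∈ (S : Subgroup G), c * s * c⁻¹ = t * s * t⁻¹ := by
  obtain ⟨K, hKC, hKodd, hKn, hdec⟩ := exists_core hI hv hvc
  obtain ⟨t, ht, k, hk, rfl⟩ := hdec c hc
  refine ⟨t, ht, ?_⟩
  have h1 : k * s * k⁻¹ ∈ (S : Subgroup G) := by
    have := mul_mem (mul_mem (inv_mem ht) hcs) ht
    simpa [mul_assoc] using this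
  have hsC : s ∈ centralizer ({v} : Set G) := mem_centralizer_singleton_iff.2 (hvc s hs)
  have h2 : k * s * k⁻¹ * s⁻¹ ∈ K := by
    have := mul_mem hk (hKn s hsC k⁻¹ (inv_mem hk))
    simpa [mul_assoc] using this
  have h3 := inf_core_eq_one hKodd h2 (mul_mem h1 (inv_mem hs))
  calc t * k * s * (t * k)⁻¹ = t * (k * s * k⁻¹) * t⁻¹ := by group
    _ = _ := by rw [mul_inv_eq_one.1 h3]

/-- An element of odd order in `C(v)` normalising `S` centralises `S`. -/
theorem commute_of_odd_of_normalizer (hI : InvCentNilp G) {v : G} (hv : orderOf v = 2)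
    (hvc : ∀ s ∈ (S : Subgroup G), s * v = v * s) {n : G} (hn : Odd (orderOf n))
    (hnN : n ∈ normalizer ((S : Subgroup G) : Set G))
    (hnC : n ∈ centralizer ({v} : Set G)) {s : G} (hs : s ∈ (S : Subgroup G)) :
    n * s = s * n := by
  obtain ⟨K, hKC, hKodd, hKn, hdec⟩ := exists_core hI hv hvc
  have hnK : n ∈ K := by
    obtain ⟨j, hj⟩ : ∃ j, j = orderOf n := ⟨_, rfl⟩
    obtain ⟨t, ht, k, hk, hnt⟩ := hdec n hnC
    have htn : t = n * k⁻¹ := by rw [hnt]; group
    -- powers of `n` stay in the coset `t ^ i K`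
    have hpow : ∀ i : ℕ, (t ^ i)⁻¹ * n ^ i ∈ K := by
      intro i
      induction i with
      | zero => simp
      | succ i ih =>
        have htC : t ∈ centralizer ({v} : Set G) := mem_centralizer_singleton_iff.2 (hvc t ht)
        have h := mul_mem (hKn t⁻¹ (inv_mem htC) _ ih) hk
        have heq : (t ^ (i + 1))⁻¹ * n ^ (i + 1) = t⁻¹ * ((t ^ i)⁻¹ * n ^ i) * t⁻¹⁻¹ * k := by
          rw [pow_succ n i, pow_succ, mul_inv_rev]
          nth_rewrite 2 [hnt]
          group
        rwa [heq]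
    have h1 := hpow j
    rw [hj, pow_orderOf_eq_one, mul_one] at h1
    have h2 := inf_core_eq_one hKodd (by simpa using inv_mem h1) (pow_mem ht (orderOf n))
    have h3 : orderOf t ∣ orderOf n := orderOf_dvd_of_pow_eq_one h2
    obtain ⟨e, he⟩ := S.2.exists_card_eq
    have h4 : t = 1 := orderOf_eq_one_iff.1 (Nat.eq_one_of_dvd_coprimes
      ((Nat.coprime_two_right.2 hn).pow_right e) h3 (he ▸ orderOf_dvd_natCard (S : Subgroup G) ht))
    rw [hnt, h4, one_mul]
    exact hk
  have h1 : n * s * n⁻¹ * s⁻¹ ∈ K := by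
    have hsC : s ∈ centralizer ({v} : Set G) := mem_centralizer_singleton_iff.2 (hvc s hs)
    have := mul_mem hnK (hKn s hsC n⁻¹ (inv_mem hnK))
    simpa [mul_assoc] using this
  have h2 := inf_core_eq_one hKodd h1
    (mul_mem ((mem_normalizer_iff.1 hnN s).1 hs) (inv_mem hs))
  exact mul_inv_eq_iff_eq_mul.1 (mul_inv_eq_one.1 h2)

/-- In a simple group a subgroup of `S` containing all the quotients of fused elements is `S`. -/
theorem le_of_fusion_quotients [IsSimpleGroup G] (hG : ¬ IsMulCommutative G) {T : Subgroup G}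
    (hT : ∀ x ∈ (S : Subgroup G), ∀ g : G, g * x * g⁻¹ ∈ (S : Subgroup G) →
      x * (g * x * g⁻¹)⁻¹ ∈ T) : (S : Subgroup G) ≤ T := by
  haveI : Fact (Nat.Prime 2) := ⟨Nat.prime_two⟩
  have h := Subgroup.commutator_inf_eq_focalSubgroup (P := S)
  rw [SmallGroups.Sylow.commutator_eq_top hG, top_inf_eq] at h
  rw [h, Subgroup.focalSubgroup_def, closure_le]
  rintro _ ⟨hmem, x, hx, u, rfl⟩
  have hu : u * x * u⁻¹ ∈ (S : Subgroup G) := by
    have := inv_mem (mul_mem (inv_mem hx) hmem)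
    simpa [commutatorElement_def, mul_assoc] using this
  have := hT x hx u hu
  simpa [commutatorElement_def, mul_assoc] using this

end Cfsg.Agent.Lib.CNilp98
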