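import Cfsg.Agent.Lib.CNilp98.Main
import Cfsg.Agent.Lib.StrongEmb10.Main
import Cfsg.Agent.Lib.BenderOne.Final

/-!
# S3214 given the main proposition of the Gorenstein–Walter theorem
-/

set_option autoImplicit false

namespace Cfsg.Agent.Lib.CNilp98

universe u

variable {G : Type u} [Group G] [Finite G]

/-- **S3214**, given the Gorenstein–Walter proposition. -/
theorem classification_of_gw [IsSimpleGroup G] (hGW : GorensteinWalter.PropMain.{u})
    (hG : ¬ IsMulCommutative G)
    (hI : ∀ t : G, orderOf t = 2 →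
      Cfsg.HasNormalPComplement 2 ↥(Subgroup.centralizer ({t} : Set G))) :
    (∃ (F : Type) (_ : Field F) (_ : Fintype F), 3 < Fintype.card F ∧
        Nonempty (G ≃* Matrix.ProjectiveSpecialLinearGroup (Fin 2) F)) ∨
      Cfsg.Lie.IsoSuzuki G ∨ Nonempty (G ≃* ↥(alternatingGroup (Fin 7))) ∨
      (∃ (F : Type) (_ : Field F) (_ : Fintype F), Fintype.card F = 4 ∧
        Nonempty (G ≃* Matrix.ProjectiveSpecialLinearGroup (Fin 3) F)) :=
  classification (fun _ _ _ _ hH => StrongEmb10.row1221 BenderOne.propPartOneFinal hH) hGW hG hI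

end Cfsg.Agent.Lib.CNilp98
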