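import Cfsg.Agent.Lib.CNilp98.RankTwo

/-!
# Simple groups in which all centralisers of involutions have normal 2-complements

The statement of S3214, given the core lemma for strongly embedded subgroups and the main
proposition of the Gorenstein–Walter theorem.
-/

set_option autoImplicit false

namespace Cfsg.Agent.Lib.CNilp98

open Cfsg.Agent.Lib.BenderDeps.Row3109 (CoreOfStronglyEmbedded)

universe u

variable {G : Type u} [Group G] [Finite G]

/-- **S3214**, given the two propositions. -/
theorem classification [IsSimpleGroup G] (hBender : CoreOfStronglyEmbedded.{u})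
    (hGW : GorensteinWalter.PropMain.{u}) (hG : ¬ IsMulCommutative G)
    (hI : ∀ t : G, orderOf t = 2 →
      Cfsg.HasNormalPComplement 2 ↥(Subgroup.centralizer ({t} : Set G))) :
    (∃ (F : Type) (_ : Field F) (_ : Fintype F), 3 < Fintype.card F ∧
        Nonempty (G ≃* Matrix.ProjectiveSpecialLinearGroup (Fin 2) F)) ∨
      Cfsg.Lie.IsoSuzuki G ∨ Nonempty (G ≃* ↥(alternatingGroup (Fin 7))) ∨
      (∃ (F : Type) (_ : Field F) (_ : Fintype F), Fintype.card F = 4 ∧
        Nonempty (G ≃* Matrix.ProjectiveSpecialLinearGroup (Fin 3) F)) := by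
  by_cases h2 : Cfsg.PRankLE 2 2 G
  · exact rankLeTwo hGW hG hI h2
  · exact rankGeThree hBender hG hI h2

end Cfsg.Agent.Lib.CNilp98
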