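import Cfsg.Agent.Lib.CNilp98.Basic
import Cfsg.Prelude.Def_CaseTheorems

/-!
# The Sylow 2-subgroup is not quasi-dihedral
-/

set_option autoImplicit false
set_option linter.style.haveILetI false
set_option linter.unusedSectionVars false

namespace Cfsg.Agent.Lib.CNilp98.QuasiDihedral

open Subgroup

universe u

variable {G : Type u} [Group G] [Finite G] {S : Sylow 2 G}

theorem false_of_isQuasiDihedral [IsSimpleGroup G] (hG : ¬ IsMulCommutative G)
    (hI : InvCentNilp G) (hS : Cfsg.IsQuasiDihedral ↥(S : Subgroup G)) : False := by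
  haveI : Fact (Nat.Prime 2) := ⟨Nat.prime_two⟩
  obtain ⟨n, hn, hcard, x, y, hx, hy, hxy⟩ := hS
  obtain ⟨h, hh⟩ : ∃ h, h = 2 ^ (n - 1) := ⟨_, rfl⟩
  have h4 : 4 ≤ h := hh ▸ le_trans (by norm_num) (Nat.pow_le_pow_right two_pos (show 2 ≤ n - 1 by omega))
  have hh2 : 2 * h = 2 ^ n := by rw [hh, ← pow_succ', Nat.sub_add_cancel (by omega)]
  have hheven : 2 ∣ h := hh ▸ dvd_pow_self 2 (by omega)
  rw [← hh] at hxy
  rw [← hh2] at hx
  have hx2 : x ^ (2 * h) = 1 := by rw [← hx, pow_orderOf_eq_one]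
  have hy2 : y * y = 1 := by
    have := pow_orderOf_eq_one y
    rwa [hy, pow_two] at this
  have hyi : y⁻¹ = y := inv_eq_of_mul_eq_one_right hy2
  have hpow : ∀ a b : ℕ, x ^ a = x ^ b ↔ a % (2 * h) = b % (2 * h) := fun a b => by
    rw [pow_eq_pow_iff_modEq, hx]
    exact Iff.rfl
  have hconj : ∀ i : ℕ, y * x ^ i = x ^ (i * (h - 1)) * y := fun i => by
    have : y * x ^ i * y⁻¹ = x ^ ((h - 1) * i) := by rw [← conj_pow, hxy, ← pow_mul]
    rw [mul_comm i, ← this, inv_mul_cancel_right]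
  have hyx : y ∉ zpowers x := by
    intro hmem
    obtain ⟨i, hi⟩ := (isOfFinOrder_of_finite x).mem_powers_iff_mem_zpowers.2 hmem
    have hc : y * x * y⁻¹ = x := by
      simp only at hi
      rw [← hi, (Commute.pow_self x i).eq, mul_inv_cancel_right]
    rw [hxy] at hc
    have := (hpow (h - 1) 1).1 (by rw [hc, pow_one])
    rw [Nat.mod_eq_of_lt (by omega), Nat.mod_eq_of_lt (by omega)] at this
    omega
  -- the elements
  have hform : ∀ s : ↥(S : Subgroup G), ∃ i : ℕ, s = x ^ i ∨ s = x ^ i * y := by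
    intro s
    have hidx : (zpowers x).index = 2 := by
      have h1 := (zpowers x).card_mul_index
      rw [Nat.card_zpowers, hx, hcard, pow_succ, ← hh2] at h1
      exact Nat.eq_of_mul_eq_mul_left (by omega) h1
    by_cases hs : s ∈ zpowers x
    · obtain ⟨i, hi⟩ := (isOfFinOrder_of_finite x).mem_powers_iff_mem_zpowers.2 hs
      exact ⟨i, Or.inl hi.symm⟩
    · have hsy : s * y ∈ zpowers x := (Subgroup.mul_mem_iff_of_index_two hidx).2 (by simp [hs, hyx])
      obtain ⟨i, hi⟩ := (isOfFinOrder_of_finite x).mem_powers_iff_mem_zpowers.2 hsy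
      refine ⟨i, Or.inr ?_⟩
      simp only at hi
      rw [hi, mul_assoc, hy2, mul_one]
  -- the central involution
  obtain ⟨z, hz⟩ : ∃ z, z = x ^ h := ⟨_, rfl⟩
  have hz1 : z ≠ 1 := by
    rw [hz]
    exact pow_ne_one_of_lt_orderOf (by omega) (by rw [hx]; omega)
  have hz2 : z * z = 1 := by rw [hz, ← pow_add, ← two_mul, hx2]
  have hzodd : ∀ a : ℕ, a % 2 = 1 → x ^ (h * a) = z := fun a ha => by
    rw [pow_mul, ← hz, ← Nat.div_add_mod a 2, ha, pow_succ, pow_mul, pow_two, hz2, one_pow, one_mul]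
  have hzc : ∀ s, s * z = z * s := by
    intro s
    have hzy : y * z = z * y := by rw [hz, hconj, hzodd (h - 1) (by omega), hz]
    obtain ⟨i, rfl | rfl⟩ := hform s
    · rw [hz, ← pow_add, ← pow_add, add_comm]
    · rw [mul_assoc, hzy, ← mul_assoc, ← mul_assoc]
      congr 1
      rw [hz, ← pow_add, ← pow_add, add_comm]
  have hinvol : ∀ m : ℕ, x ^ m * x ^ m = 1 → x ^ m = 1 ∨ x ^ m = z := by
    intro m hm
    rw [← pow_add, ← two_mul, ← orderOf_dvd_iff_pow_eq_one, hx] at hm
    obtain ⟨c, rfl⟩ := Nat.dvd_of_mul_dvd_mul_left two_pos hm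
    rcases Nat.mod_two_eq_zero_or_one c with hc | hc
    · left
      rw [pow_mul, ← hz, ← Nat.div_add_mod c 2, hc, add_zero, pow_mul, pow_two, hz2, one_pow]
    · exact Or.inr (hzodd c hc)
  have hsq : ∀ i : ℕ, x ^ i * y * (x ^ i * y) = x ^ (h * i) := fun i => by
    calc x ^ i * y * (x ^ i * y) = x ^ i * (y * x ^ i) * y := by group
      _ = x ^ (i + i * (h - 1)) * (y * y) := by rw [hconj, pow_add]; group
      _ = _ := by
        rw [hy2, mul_one]
        congr 1
        obtain ⟨k, rfl⟩ : ∃ k, h = k + 1 := ⟨h - 1, by omega⟩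
        rw [Nat.add_sub_cancel]
        ring
  -- the even part
  let T₀ : Submonoid ↥(S : Subgroup G) :=
    { carrier := {s | ∃ i : ℕ, i % 2 = 0 ∧ (s = x ^ i ∨ s = x ^ i * y)}
      one_mem' := ⟨0, rfl, Or.inl (pow_zero x).symm⟩
      mul_mem' := by
        rintro s t ⟨i, hi, hs⟩ ⟨j, hj, ht⟩
        have hj' : j * (h - 1) % 2 = 0 := by rw [Nat.mul_mod, hj]; simp
        rcases hs with rfl | rfl <;> rcases ht with rfl | rfl
        · exact ⟨i + j, by omega, Or.inl (pow_add _ _ _).symm⟩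
        · exact ⟨i + j, by omega, Or.inr (by rw [pow_add]; group)⟩
        · refine ⟨i + j * (h - 1), by omega, Or.inr ?_⟩
          rw [mul_assoc, hconj, pow_add]
          group
        · refine ⟨i + j * (h - 1), by omega, Or.inl ?_⟩
          calc x ^ i * y * (x ^ j * y) = x ^ i * (y * x ^ j) * y := by group
            _ = x ^ (i + j * (h - 1)) * (y * y) := by rw [hconj, pow_add]; group
            _ = _ := by rw [hy2, mul_one] }
  let T : Subgroup ↥(S : Subgroup G) :=
    { T₀ with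
      inv_mem' := fun {s} hs => by
        have hfin := isOfFinOrder_of_finite s
        have h1 : s⁻¹ = s ^ (orderOf s - 1) := inv_eq_of_mul_eq_one_right (by
          rw [← pow_succ', Nat.sub_add_cancel hfin.orderOf_pos, pow_orderOf_eq_one])
        show s⁻¹ ∈ T₀
        rw [h1]
        exact pow_mem hs _ }
  have hT : ∀ s, s ∈ T ↔ ∃ i : ℕ, i % 2 = 0 ∧ (s = x ^ i ∨ s = x ^ i * y) := fun s => Iff.rfl
  have hxT : x ∉ T := by
    rw [hT]
    rintro ⟨i, hi, he | he⟩
    · have := (hpow 1 i).1 (by rw [pow_one]; exact he)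
      rw [Nat.mod_eq_of_lt (a := 1) (by omega)] at this
      have h2 := congrArg (· % 2) this
      simp only [Nat.mod_mul_right_mod, hi] at h2
      omega
    · refine hyx ?_
      have hy' : y = (x ^ i)⁻¹ * x := by
        calc y = (x ^ i)⁻¹ * (x ^ i * y) := by group
          _ = _ := by rw [← he]
      rw [hy']
      exact mul_mem (inv_mem (pow_mem (mem_zpowers x) i)) (mem_zpowers x)
  have hxTor : ∀ s, s ∈ T ∨ ∃ t ∈ T, s = t * x := by
    intro s
    obtain ⟨i, hs⟩ := hform s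
    rcases Nat.mod_two_eq_zero_or_one i with hi | hi
    · exact Or.inl ((hT s).2 ⟨i, hi, hs⟩)
    · refine Or.inr ⟨s * x⁻¹, ?_, by group⟩
      have hxinv : x⁻¹ = x ^ (2 * h - 1) := inv_eq_of_mul_eq_one_right (by
        rw [← pow_succ', Nat.sub_add_cancel (by omega), hx2])
      rw [hT]
      rcases hs with rfl | rfl
      · exact ⟨i + (2 * h - 1), by omega, Or.inl (by rw [hxinv, pow_add])⟩
      · refine ⟨i + (2 * h - 1) * (h - 1), ?_, Or.inr ?_⟩
        · obtain ⟨k, rfl⟩ := hheven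
          rw [Nat.add_mod, Nat.mul_mod]
          have e1 : (2 * (2 * k) - 1) % 2 = 1 := by omega
          have e2 : (2 * k - 1) % 2 = 1 := by omega
          rw [e1, e2, hi]
        · rw [hxinv, mul_assoc, hconj, pow_add]
          group
  have hTindex : T.index = 2 := by
    rw [index_eq_two_iff]
    refine ⟨x⁻¹, fun s => ?_⟩
    rcases hxTor s with hs | ⟨t, ht, rfl⟩
    · refine Or.inr ⟨hs, fun h' => hxT ?_⟩
      simpa using inv_mem (mul_mem (inv_mem hs) h')
    · refine Or.inl ⟨by simpa using ht, fun h' => hxT ?_⟩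
      simpa using mul_mem (inv_mem ht) h'
  -- elements outside `T` or of order at least four have the involution `z`
  have hlong : ∀ s : ↥(S : Subgroup G), s * s ≠ 1 →
      (∃ j : ℕ, s ^ j = z) ∧ ∀ j : ℕ, s ^ j * s ^ j = 1 → s ^ j = 1 ∨ s ^ j = z := by
    intro s hs
    have hinv : ∀ j : ℕ, s ^ j * s ^ j = 1 → s ^ j = 1 ∨ s ^ j = z := by
      intro j hj
      obtain ⟨i, rfl | rfl⟩ := hform s
      · rw [← pow_mul] at hj ⊢
        exact hinvol _ hj
      · rcases Nat.even_or_odd j with ⟨m, rfl⟩ | ⟨m, rfl⟩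
        · rw [← two_mul, pow_mul, pow_two, hsq, ← pow_mul] at hj ⊢
          exact hinvol _ hj
        · exfalso
          refine hs ?_
          have h4' : (x ^ i * y * (x ^ i * y)) * (x ^ i * y * (x ^ i * y)) = 1 := by
            rw [hsq, ← pow_add, show h * i + h * i = 2 * h * i by ring, pow_mul, hx2, one_pow]
          have hsq2 : x ^ (h * i) * x ^ (h * i) = 1 := by rw [← hsq]; exact h4'
          rw [← pow_add, show 2 * m + 1 + (2 * m + 1) = 2 * (2 * m + 1) by ring, pow_mul, pow_two,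
            hsq, pow_succ, pow_mul (x ^ (h * i)) 2 m, pow_two, hsq2, one_pow, one_mul] at hj
          rw [hsq]
          exact hj
    refine ⟨?_, hinv⟩
    obtain ⟨e, he⟩ := IsPGroup.iff_orderOf.1 S.2 s
    obtain ⟨e', rfl⟩ : ∃ e', e = e' + 1 := by
      rcases e with _ | e'
      · have hs1 : s = 1 := orderOf_eq_one_iff.1 (by simpa using he)
        rw [hs1] at hs
        exact absurd (mul_one 1) hs
      · exact ⟨e', rfl⟩
    refine ⟨2 ^ e', (hinv _ ?_).resolve_left ?_⟩
    · rw [← pow_add, ← two_mul, ← pow_succ', ← he, pow_orderOf_eq_one]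
    · exact pow_ne_one_of_lt_orderOf (by positivity) (by rw [he, pow_succ]; linarith [Nat.two_pow_pos e'])
  have hzo : orderOf (z : G) = 2 := by
    rw [Subgroup.orderOf_coe]
    exact orderOf_eq_prime (by rw [pow_two]; exact hz2) hz1
  have houtT : ∀ s, s ∉ T → s * s ≠ 1 := by
    intro s hs hs2
    obtain ⟨i, hi⟩ := hform s
    have hi2 : i % 2 = 1 := by
      by_contra h'
      exact hs ((hT s).2 ⟨i, by omega, hi⟩)
    rcases hi with rfl | rfl
    · rw [← pow_add, ← orderOf_dvd_iff_pow_eq_one, hx, ← two_mul] at hs2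
      obtain ⟨c, hc⟩ := Nat.dvd_of_mul_dvd_mul_left two_pos hs2
      obtain ⟨k, hk⟩ := hheven
      rw [hc, hk, mul_assoc, Nat.mul_mod_right] at hi2
      omega
    · rw [hsq, hzodd i hi2] at hs2
      exact hz1 hs2
  have key : ∀ (s s' : ↥(S : Subgroup G)) (g : G), g * (s : G) * g⁻¹ = s' → s ∉ T →
      s * s'⁻¹ ∈ T := by
    intro s s' g hg hs
    have hss := houtT s hs
    have hss' : s' * s' ≠ 1 := fun h' => hss (Subtype.ext (by
      have := congrArg Subtype.val h'
      simp only [coe_mul, coe_one, ← hg] at this ⊢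
      rw [show g * (s : G) * g⁻¹ * (g * (s : G) * g⁻¹) = g * ((s : G) * s) * g⁻¹ by group,
        conj_eq_one_iff] at this
      exact this))
    obtain ⟨j, hj⟩ := (hlong s hss).1
    have hj' : g * (z : G) * g⁻¹ = ((s' ^ j : ↥(S : Subgroup G)) : G) := by
      rw [← hj]
      push_cast
      rw [← conj_pow, hg]
    have hfix : s' ^ j = z := by
      refine ((hlong s' hss').2 j (Subtype.ext ?_)).resolve_left fun h1 => hz1 (Subtype.ext ?_)
      · rw [coe_mul, ← hj', show g * (z : G) * g⁻¹ * (g * (z : G) * g⁻¹) =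
          g * ((z : G) * z) * g⁻¹ by group, ← coe_mul, hz2]
        simp
      · rw [h1, coe_one] at hj'
        exact conj_eq_one_iff.1 hj'
    rw [hfix] at hj'
    obtain ⟨t, ht, htx⟩ := exists_conj_in_sylow (S := S) hI hzo
      (fun a ha => congrArg Subtype.val (hzc ⟨a, ha⟩)) (c := g) (s := (s : G))
      (mem_centralizer_singleton_iff.2 (mul_inv_eq_iff_eq_mul.1 hj')) s.2 (hg ▸ s'.2)
    have : s' = ⟨t, ht⟩ * s * ⟨t, ht⟩⁻¹ := Subtype.ext (by rw [← hg, htx]; rfl)
    rw [this]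
    simp only [Subgroup.mul_mem_iff_of_index_two hTindex, inv_mem_iff]
    tauto
  have hsub : (S : Subgroup G) ≤ T.map (S : Subgroup G).subtype := by
    refine le_of_fusion_quotients hG fun s hs g hgs => ?_
    refine ⟨⟨s, hs⟩ * (⟨g * s * g⁻¹, hgs⟩ : ↥(S : Subgroup G))⁻¹, ?_, rfl⟩
    by_cases hsT : (⟨s, hs⟩ : ↥(S : Subgroup G)) ∈ T
    · by_cases hgT : (⟨g * s * g⁻¹, hgs⟩ : ↥(S : Subgroup G)) ∈ T
      · exact mul_mem hsT (inv_mem hgT)
      · have := key ⟨g * s * g⁻¹, hgs⟩ ⟨s, hs⟩ g⁻¹ (by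
          show g⁻¹ * (g * s * g⁻¹) * g⁻¹⁻¹ = s
          group) hgT
        simpa using inv_mem this
    · exact key _ _ g rfl hsT
  obtain ⟨t, ht, htx⟩ := hsub x.2
  exact hxT (Subtype.ext (a1 := t) (a2 := x) htx ▸ ht)

end Cfsg.Agent.Lib.CNilp98.QuasiDihedral
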