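import Cfsg.Agent.Lib.CNilp98.Basic
import Cfsg.Agent.Lib.Dichotomy34.Main
import Cfsg.Agent.Lib.CITSuzuki.Classification
import Cfsg.Agent.Lib.HallNumber68.Basic
import Cfsg.Agent.Lib.FTDeps.Row0516
import Cfsg.Agent.Lib.Linear.SL2
import Cfsg.Agent.Lib.Spectrum.SL25Recognition

/-!
# 2-rank at least three

The cores of involution centralisers are trivial, so the centralisers are 2-groups.
-/

set_option autoImplicit false
set_option linter.style.haveILetI false

namespace Cfsg.Agent.Lib.CNilp98

open Subgroup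
open Cfsg.Agent.Lib.BenderDeps.Row3109 (CoreOfStronglyEmbedded)

universe u

variable {G : Type u} [Group G] [Finite G]

/-- The conclusion of S3214. -/
def Conclusion (G : Type u) [Group G] : Prop :=
  (∃ (F : Type) (_ : Field F) (_ : Fintype F), 3 < Fintype.card F ∧
      Nonempty (G ≃* Matrix.ProjectiveSpecialLinearGroup (Fin 2) F)) ∨
    Cfsg.Lie.IsoSuzuki G ∨ Nonempty (G ≃* ↥(alternatingGroup (Fin 7))) ∨
    (∃ (F : Type) (_ : Field F) (_ : Fintype F), Fintype.card F = 4 ∧
      Nonempty (G ≃* Matrix.ProjectiveSpecialLinearGroup (Fin 3) F))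

theorem not_isSolvable [IsSimpleGroup G] (hG : ¬ IsMulCommutative G) : ¬ Group.IsSolvable G :=
  fun h => hG ⟨⟨IsSimpleGroup.comm_iff_isSolvable.2 h⟩⟩

theorem not_isComponentType (hI : InvCentNilp G) : ¬ Cfsg.IsComponentType G := by
  rintro ⟨t, ht, K, -, hKp, hKs⟩
  haveI : Group.IsSolvable ↥(centralizer ({t} : Set G)) :=
    HallNumber68.isSolvable_of_hasNormalPComplement (hI t ht)
  haveI : Group.IsSolvable (↥(centralizer ({t} : Set G)) ⧸ Cfsg.oddCore ↥(centralizer ({t} : Set G))) :=
    Group.isSolvable_of_surjective (f := QuotientGroup.mk' _) (QuotientGroup.mk'_surjective _)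
  haveI : Group.IsSolvable ↥K :=
    Group.isSolvable_of_isSolvable_injective (f := K.subtype) K.subtype_injective
  haveI : Nontrivial (↥K ⧸ center ↥K) := hKs.toNontrivial
  haveI : Nontrivial ↥K := Function.Surjective.nontrivial (QuotientGroup.mk'_surjective (center ↥K))
  exact (Group.IsSolvable.commutator_lt_top_of_nontrivial ↥K).ne hKp.commutator_eq_top

/-- The centralisers of involutions are 2-groups if their cores are trivial. -/
theorem isPGroup_centralizer (hI : InvCentNilp G) {t : G} (ht : orderOf t = 2)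
    (hcore : Cfsg.centralizerPPrimeCore 2 t = ⊥) :
    IsPGroup 2 ↥(centralizer ({t} : Set G)) := by
  haveI : Fact (Nat.Prime 2) := ⟨Nat.prime_two⟩
  set C := centralizer ({t} : Set G)
  obtain ⟨P, N, hN, hc⟩ := hI t ht
  haveI := hN
  have hNle : N ≤ Cfsg.pPrimeCore 2 ↥C := Cores.le_pPrimeCore_of_not_dvd
    (by rw [← hc.index_eq_card]; exact P.not_dvd_index)
  have hbot : Cfsg.pPrimeCore 2 ↥C = ⊥ :=
    (map_eq_bot_iff_of_injective _ C.subtype_injective).1 hcore
  rw [hbot, le_bot_iff] at hNle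
  subst hNle
  have hP : (P : Subgroup ↥C) = ⊤ := by
    refine eq_top_of_card_eq _ ?_
    rw [← hc.card_mul_card, card_bot, one_mul]
  exact IsPGroup.of_equiv P.2 ((MulEquiv.subgroupCongr hP).trans Subgroup.topEquiv)

/-- Simple CIT groups are in the list. -/
theorem conclusion_of_cit [IsSimpleGroup G] (hG : ¬ IsMulCommutative G)
    (h : ∀ t : G, orderOf t = 2 → IsPGroup 2 ↥(centralizer ({t} : Set G))) : Conclusion G := by
  have hna : ∃ a b : G, a * b ≠ b * a := by
    by_contra hall
    push Not at hall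
    exact hG ⟨⟨hall⟩⟩
  rcases CITSuzuki.simpleCITClass G hna h with ⟨F, iF, iT, hF, ⟨e⟩⟩ | hpsl3 | hsz
  · refine Or.inl ⟨F, iF, iT, ?_, ⟨e⟩⟩
    by_contra hlt
    have h2 : 2 ≤ Fintype.card F := Fintype.one_lt_card
    have hcard : Nat.card G ≤ 12 := by
      rw [Nat.card_congr e.toEquiv]
      rcases (by omega : Fintype.card F = 2 ∨ Fintype.card F = 3) with h | h
      · have := Linear.card_PSL_two_of_even (F := F) (by rw [h]; exact even_two)
        rw [this, h]
        norm_num
      · have := Linear.two_mul_card_PSL_two_of_odd (F := F) (by rw [h]; decide)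
        rw [h] at this
        omega
    exact not_isSolvable hG
      (Spectrum.isSolvable_of_card_lt_sixty _ rfl (by omega))
  · exact Or.inr (Or.inr (Or.inr hpsl3))
  · exact Or.inr (Or.inl hsz)

/-- **2-rank at least three.** -/
theorem rankGeThree [IsSimpleGroup G] (hBender : CoreOfStronglyEmbedded.{u})
    (hG : ¬ IsMulCommutative G) (hI : InvCentNilp G) (h3 : ¬ Cfsg.PRankLE 2 2 G) :
    Conclusion G := by
  haveI : Fact (Nat.Prime 2) := ⟨Nat.prime_two⟩
  obtain ⟨X⟩ := Dichotomy34.exists_ctx h3 (not_isComponentType hI)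
  have hO : Cfsg.oddCore G = ⊥ := by
    haveI : (Cfsg.oddCore G).Normal := Cfsg.pPrimeCore_normal 2 G
    refine (IsSimpleGroup.eq_bot_or_eq_top_of_normal _ inferInstance).resolve_right fun e => ?_
    have hodd : ¬ 2 ∣ Nat.card ↥(Cfsg.oddCore G) := Cores.not_dvd_card_pPrimeCore 2
    rw [e, card_top] at hodd
    exact not_isSolvable hG (OddOrder.FeitThompson.isSolvable_of_odd_card
      (Nat.odd_iff.2 (Nat.two_dvd_ne_zero.1 hodd)))
  exact conclusion_of_cit hG fun t ht => isPGroup_centralizer hI ht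
    (X.cores_eq_bot hBender (FTDeps.Row0516.index_ne_two hG) hO ht)

end Cfsg.Agent.Lib.CNilp98
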