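import Cfsg.Agent.Lib.CNilp98.Basic
import Cfsg.Agent.Lib.Fusion.Thompson
import Cfsg.Prelude.Def_CaseTheorems

/-!
# The Sylow 2-subgroup is not wreathed
-/

set_option autoImplicit false
set_option linter.style.haveILetI false
set_option linter.unusedSectionVars false

namespace Cfsg.Agent.Lib.CNilp98.Wreathed

open Subgroup

universe u

variable {G : Type u} [Group G] [Finite G] {S : Sylow 2 G}

/-- A 2-subgroup is conjugate into a given Sylow 2-subgroup. -/
theorem exists_conjugator {X : Type u} [Group X] [Finite X] {A : Subgroup X} (hA : IsPGroup 2 ↥A)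
    (P : Sylow 2 X) : ∃ c : X, ∀ r ∈ A, c * r * c⁻¹ ∈ (P : Subgroup X) := by
  haveI : Fact (Nat.Prime 2) := ⟨Nat.prime_two⟩
  obtain ⟨Q, hQ⟩ := hA.exists_le_sylow
  obtain ⟨c, rfl⟩ := MulAction.exists_smul_eq X Q P
  refine ⟨c, fun r hr => ?_⟩
  rw [Sylow.coe_subgroup_smul, mem_pointwise_smul_iff_inv_smul_mem]
  simpa [MulAut.smul_def, mul_assoc] using hQ hr

/-- Coordinates of a wreathed group. -/
structure Frame (S : Sylow 2 G) (h : ℕ) where
  x : ↥(S : Subgroup G)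
  y : ↥(S : Subgroup G)
  w : ↥(S : Subgroup G)
  two_dvd : 2 ∣ h
  pos : 0 < h
  card : Nat.card ↥(S : Subgroup G) = 2 * (2 * h * (2 * h))
  order : orderOf x = 2 * h
  comm : x * y = y * x
  disj : zpowers x ⊓ zpowers y = ⊥
  sq : w * w = 1
  ne_one : w ≠ 1
  conj : w * x * w⁻¹ = y

namespace Frame

variable {h : ℕ} (F : Frame S h)

/-- The elements of the abelian subgroup of index two. -/
def el (i j : ℕ) : ↥(S : Subgroup G) := F.x ^ i * F.y ^ j

theorem el_mul (i j i' j' : ℕ) : F.el i j * F.el i' j' = F.el (i + i') (j + j') := by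
  have h1 : F.y ^ j * F.x ^ i' = F.x ^ i' * F.y ^ j :=
    ((show Commute F.x F.y from F.comm).pow_pow i' j).eq.symm
  simp only [el, pow_add, mul_assoc]
  rw [← mul_assoc (F.y ^ j), h1, mul_assoc]

theorem el_pow (i j k : ℕ) : F.el i j ^ k = F.el (i * k) (j * k) := by
  induction k with
  | zero => simp [el]
  | succ k ih => rw [pow_succ, ih, el_mul, mul_add_one, mul_add_one]

theorem w_inv : F.w⁻¹ = F.w := inv_eq_of_mul_eq_one_right F.sq

theorem w_el (i j : ℕ) : F.w * F.el i j = F.el j i * F.w := by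
  have hyx : F.w * F.y * F.w⁻¹ = F.x := by
    rw [← F.conj, F.w_inv]
    calc F.w * (F.w * F.x * F.w) * F.w = (F.w * F.w) * F.x * (F.w * F.w) := by group
      _ = F.x := by rw [F.sq, one_mul, mul_one]
  have h1 : F.w * F.el i j * F.w⁻¹ = F.el j i := by
    calc F.w * F.el i j * F.w⁻¹ = (F.w * F.x ^ i * F.w⁻¹) * (F.w * F.y ^ j * F.w⁻¹) := by
          simp only [el]; group
      _ = F.y ^ i * F.x ^ j := by rw [← conj_pow, ← conj_pow, F.conj, hyx]
      _ = F.el j i := ((show Commute F.x F.y from F.comm).pow_pow j i).eq.symm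
  rw [← h1, inv_mul_cancel_right]

theorem order_y : orderOf F.y = 2 * h := by
  rw [← F.conj]
  exact (MulEquiv.orderOf_eq (MulAut.conj F.w) F.x).trans F.order

theorem el_eq {i j i' j' : ℕ} (e : F.el i j = F.el i' j') :
    i % (2 * h) = i' % (2 * h) ∧ j % (2 * h) = j' % (2 * h) := by
  have h1 : (F.x ^ i')⁻¹ * F.x ^ i = F.y ^ j' * (F.y ^ j)⁻¹ := by
    calc (F.x ^ i')⁻¹ * F.x ^ i = (F.x ^ i')⁻¹ * F.el i j * (F.y ^ j)⁻¹ := by simp only [el]; group
      _ = _ := by rw [e]; simp only [el]; group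
  have h2 : (F.x ^ i')⁻¹ * F.x ^ i ∈ zpowers F.x ⊓ zpowers F.y := by
    refine ⟨(zpowers F.x).mul_mem ((zpowers F.x).inv_mem ((zpowers F.x).pow_mem (mem_zpowers _) _))
      ((zpowers F.x).pow_mem (mem_zpowers _) _), ?_⟩
    rw [h1]
    exact (zpowers F.y).mul_mem ((zpowers F.y).pow_mem (mem_zpowers _) _)
      ((zpowers F.y).inv_mem ((zpowers F.y).pow_mem (mem_zpowers _) _))
  rw [F.disj, mem_bot] at h2
  have hx' : F.x ^ i = F.x ^ i' := (inv_mul_eq_one.1 h2).symm
  have hy' : F.y ^ j = F.y ^ j' := (mul_inv_eq_one.1 (h1.symm.trans h2)).symm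
  exact ⟨by rw [pow_eq_pow_iff_modEq, F.order] at hx'; exact hx',
    by rw [pow_eq_pow_iff_modEq, F.order_y] at hy'; exact hy'⟩

theorem el_mod (i j : ℕ) : F.el i j = F.el (i % (2 * h)) (j % (2 * h)) := by
  simp only [el]
  conv_lhs => rw [← pow_mod_orderOf F.x, ← pow_mod_orderOf F.y, F.order, F.order_y]

/-- The abelian subgroup of index two. -/
def A : Subgroup ↥(S : Subgroup G) where
  carrier := {s | ∃ i j, s = F.el i j}
  one_mem' := ⟨0, 0, by simp [el]⟩
  mul_mem' := by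
    rintro _ _ ⟨i, j, rfl⟩ ⟨i', j', rfl⟩
    exact ⟨_, _, F.el_mul i j i' j'⟩
  inv_mem' := by
    rintro _ ⟨i, j, rfl⟩
    refine ⟨i * (2 * h - 1), j * (2 * h - 1), ?_⟩
    rw [← F.el_pow]
    refine inv_eq_of_mul_eq_one_right ?_
    have := F.pos
    rw [← pow_succ', Nat.sub_add_cancel (by omega), F.el_pow, F.el_mod]
    simp [el]

theorem el_mem (i j : ℕ) : F.el i j ∈ F.A := ⟨i, j, rfl⟩

theorem A_comm {s t : ↥(S : Subgroup G)} (hs : s ∈ F.A) (ht : t ∈ F.A) : s * t = t * s := by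
  obtain ⟨i, j, rfl⟩ := hs
  obtain ⟨i', j', rfl⟩ := ht
  rw [F.el_mul, F.el_mul, add_comm i, add_comm j]

theorem w_notMem : F.w ∉ F.A := by
  intro hw
  have h1 : F.w * F.el 1 0 = F.el 1 0 * F.w := F.A_comm hw (F.el_mem 1 0)
  rw [F.w_el] at h1
  have h2 := F.el_eq (mul_right_cancel h1)
  have := F.pos
  rw [Nat.zero_mod, Nat.mod_eq_of_lt (by omega)] at h2
  omega

theorem card_A : Nat.card ↥F.A = 2 * h * (2 * h) := by
  haveI : NeZero (2 * h) := ⟨by have := F.pos; omega⟩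
  rw [← Nat.card_congr (Equiv.ofBijective
    (fun p : Fin (2 * h) × Fin (2 * h) => (⟨F.el p.1 p.2, F.el_mem _ _⟩ : ↥F.A)) ⟨?_, ?_⟩)]
  · simp
  · intro p q e
    have h1 := F.el_eq (congrArg Subtype.val e)
    rw [Nat.mod_eq_of_lt p.1.2, Nat.mod_eq_of_lt q.1.2, Nat.mod_eq_of_lt p.2.2,
      Nat.mod_eq_of_lt q.2.2] at h1
    exact Prod.ext (Fin.ext h1.1) (Fin.ext h1.2)
  · rintro ⟨s, i, j, rfl⟩
    exact ⟨(Fin.ofNat (2 * h) i, Fin.ofNat (2 * h) j), Subtype.ext (F.el_mod i j).symm⟩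

theorem index_A : F.A.index = 2 := by
  have h1 := F.A.card_mul_index
  rw [F.card_A, F.card] at h1
  refine Nat.eq_of_mul_eq_mul_left ?_ (h1.trans (Nat.mul_comm _ _))
  exact Nat.mul_pos (by have := F.pos; omega) (by have := F.pos; omega)

theorem form (s : ↥(S : Subgroup G)) : ∃ i j, s = F.el i j ∨ s = F.el i j * F.w := by
  by_cases hs : s ∈ F.A
  · obtain ⟨i, j, rfl⟩ := hs
    exact ⟨i, j, Or.inl rfl⟩
  · obtain ⟨i, j, hij⟩ : s * F.w ∈ F.A :=
      (Subgroup.mul_mem_iff_of_index_two F.index_A).2 (by simp [hs, F.w_notMem])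
    exact ⟨i, j, Or.inr (by rw [← hij, mul_assoc, F.sq, mul_one])⟩

/-- The involutions of `A`. -/
theorem invol {s : ↥(S : Subgroup G)} (hs : s ∈ F.A) (h2 : s * s = 1) :
    s = 1 ∨ s = F.el h 0 ∨ s = F.el 0 h ∨ s = F.el h h := by
  obtain ⟨i, j, rfl⟩ := hs
  rw [F.el_mul] at h2
  have h3 := F.el_eq (h2.trans (show (1 : ↥(S : Subgroup G)) = F.el 0 0 by simp [el]))
  have key : ∀ m : ℕ, (m + m) % (2 * h) = 0 % (2 * h) → m % (2 * h) = 0 ∨ m % (2 * h) = h := by
    intro m hm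
    rw [Nat.zero_mod] at hm
    obtain ⟨k, hk⟩ := Nat.dvd_of_mod_eq_zero hm
    have hmk : m = h * k := by rw [mul_assoc] at hk; omega
    rcases Nat.even_or_odd k with ⟨l, rfl⟩ | ⟨l, rfl⟩
    · exact Or.inl (by rw [hmk, show h * (l + l) = 2 * h * l by ring, Nat.mul_mod_right])
    · right
      rw [hmk, show h * (2 * l + 1) = h + 2 * h * l by ring, Nat.add_mul_mod_self_left,
        Nat.mod_eq_of_lt (by have := F.pos; omega)]
  rw [F.el_mod i j]
  rcases key i h3.1 with a | a <;> rcases key j h3.2 with b | b <;> rw [a, b]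
  · exact Or.inl (by simp [el])
  · exact Or.inr (Or.inr (Or.inl rfl))
  · exact Or.inr (Or.inl rfl)
  · exact Or.inr (Or.inr (Or.inr rfl))

theorem central (s : ↥(S : Subgroup G)) : s * F.el h h = F.el h h * s := by
  obtain ⟨i, j, rfl | rfl⟩ := F.form s
  · exact F.A_comm (F.el_mem _ _) (F.el_mem _ _)
  · rw [mul_assoc, F.w_el, ← mul_assoc, F.A_comm (F.el_mem i j) (F.el_mem h h), mul_assoc]

theorem el_hh_ne : F.el h h ≠ 1 := fun e => by
  have h1 := (F.el_eq (e.trans (show (1 : ↥(S : Subgroup G)) = F.el 0 0 by simp [el]))).1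
  rw [Nat.zero_mod, Nat.mod_eq_of_lt (by have := F.pos; omega)] at h1
  have := F.pos
  omega

theorem orderOf_hh : orderOf (F.el h h : G) = 2 := by
  haveI : Fact (Nat.Prime 2) := ⟨Nat.prime_two⟩
  rw [Subgroup.orderOf_coe]
  refine orderOf_eq_prime ?_ F.el_hh_ne
  rw [F.el_pow, mul_comm h 2, F.el_mod, Nat.mod_self]
  simp [el]

/-- A central involution is `el h h`. -/
theorem eq_of_central {s : ↥(S : Subgroup G)} (h1 : s ≠ 1) (h2 : s * s = 1)
    (hc : ∀ t, t * s = s * t) : s = F.el h h := by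
  have hpos := F.pos
  have hsA : s ∈ F.A := by
    obtain ⟨i, j, rfl | rfl⟩ := F.form s
    · exact F.el_mem i j
    exfalso
    have h3 := hc (F.el 1 0)
    rw [← mul_assoc, F.el_mul, mul_assoc, F.w_el, ← mul_assoc, F.el_mul] at h3
    have h4 := (F.el_eq (mul_right_cancel h3)).1
    rw [show i + 0 = i from rfl, Nat.add_comm 1 i] at h4
    have h5 : 2 * h ∣ 1 := by
      have h6 := (Nat.modEq_iff_dvd' (Nat.le_add_right i 1)).1 (Nat.ModEq.symm h4)
      rwa [Nat.add_sub_cancel_left] at h6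
    have := Nat.le_of_dvd one_pos h5
    omega
  rcases F.invol hsA h2 with e | e | e | e
  · exact absurd e h1
  · exfalso
    have h3 := hc F.w
    rw [e, F.w_el] at h3
    have h4 := (F.el_eq (mul_right_cancel h3)).1
    rw [Nat.zero_mod, Nat.mod_eq_of_lt (by omega)] at h4
    omega
  · exfalso
    have h3 := hc F.w
    rw [e, F.w_el] at h3
    have h4 := (F.el_eq (mul_right_cancel h3)).1
    rw [Nat.zero_mod, Nat.mod_eq_of_lt (by omega)] at h4
    omega
  · exact e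

theorem card_centralizer_le :
    Nat.card {s : ↥(S : Subgroup G) // s * F.w = F.w * s} ≤ 2 * h * 2 := by
  haveI : NeZero (2 * h) := ⟨by have := F.pos; omega⟩
  let f : Fin (2 * h) × Fin 2 → ↥(S : Subgroup G) := fun p => F.el p.1 p.1 * F.w ^ (p.2 : ℕ)
  have hsurj : ∀ s : ↥(S : Subgroup G), s * F.w = F.w * s → s ∈ Set.range f := by
    intro s hs
    have key : ∀ i j : ℕ, F.el i j * F.w = F.w * F.el i j → F.el i j = F.el (i % (2 * h)) (i % (2 * h)) := by
      intro i j he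
      rw [F.w_el] at he
      rw [F.el_mod i j, (F.el_eq (mul_right_cancel he)).2]
    obtain ⟨i, j, rfl | rfl⟩ := F.form s
    · exact ⟨(Fin.ofNat (2 * h) i, 0), by simp [f, key i j hs]⟩
    · refine ⟨(Fin.ofNat (2 * h) i, 1), ?_⟩
      have hs' : F.el i j * F.w = F.w * F.el i j := by
        rw [← mul_left_inj F.w, mul_assoc]
        calc F.el i j * (F.w * F.w) = F.el i j * F.w * F.w := by rw [mul_assoc]
          _ = F.w * (F.el i j * F.w) := hs
          _ = _ := by rw [mul_assoc]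
      simp [f, key i j hs']
  calc Nat.card {s : ↥(S : Subgroup G) // s * F.w = F.w * s}
      ≤ Nat.card (Set.range f) := Nat.card_le_card_of_injective (fun s => ⟨s.1, hsurj s.1 s.2⟩)
        fun a b e => Subtype.ext (Subtype.mk.inj e)
    _ ≤ Nat.card (Fin (2 * h) × Fin 2) := Finite.card_range_le f
    _ = 2 * h * 2 := by simp

/-- `A` inside `G`. -/
def AG : Subgroup G := F.A.map (S : Subgroup G).subtype

theorem card_AG : Nat.card ↥F.AG = 2 * h * (2 * h) := by
  rw [AG, Subgroup.card_map_of_injective (S : Subgroup G).subtype_injective, F.card_A]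

theorem isPGroup_AG : IsPGroup 2 ↥F.AG := S.2.to_le (map_subtype_le _)

variable (hI : InvCentNilp G)
include hI

/-- `w` is not conjugate to the central involution. -/
theorem not_conj_central (g : G) : g * (F.w : G) * g⁻¹ ≠ (F.el h h : G) := by
  intro hg
  haveI : Fact (Nat.Prime 2) := ⟨Nat.prime_two⟩
  set c : G := (F.el h h : G) with hcdef
  have hco : orderOf c = 2 := F.orderOf_hh
  have hcc : ∀ s ∈ (S : Subgroup G), s * c = c * s := fun s hs =>
    congrArg Subtype.val (F.central ⟨s, hs⟩)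
  set C := centralizer ({c} : Set G) with hCdef
  have hSC : (S : Subgroup G) ≤ C := fun s hs => mem_centralizer_singleton_iff.2 (hcc s hs)
  set d : ↥(S : Subgroup G) := F.el 1 1
  have hdw : d * F.w = F.w * d := (F.w_el 1 1).symm
  have hdh : d ^ h = F.el h h := by rw [F.el_pow, one_mul]
  set e : G := g * (d : G) * g⁻¹ with hedef
  have heC : e ∈ C := by
    rw [hCdef, mem_centralizer_singleton_iff, ← hg, hedef]
    calc g * (d : G) * g⁻¹ * (g * (F.w : G) * g⁻¹) = g * ((d * F.w : ↥(S : Subgroup G)) : G) * g⁻¹ := by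
          push_cast; group
      _ = g * ((F.w * d : ↥(S : Subgroup G)) : G) * g⁻¹ := by rw [hdw]
      _ = _ := by push_cast; group
  obtain ⟨k, hk⟩ := exists_conjugator (A := zpowers (⟨e, heC⟩ : ↥C))
    (by
      obtain ⟨r, hr⟩ := IsPGroup.iff_orderOf.1 S.2 d
      refine IsPGroup.of_card (n := r) ?_
      rw [Nat.card_zpowers, Subgroup.orderOf_mk, hedef,
        show orderOf (g * (d : G) * g⁻¹) = orderOf (d : G) from
          MulEquiv.orderOf_eq (MulAut.conj g) _, Subgroup.orderOf_coe, hr])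
    (S.subtype hSC)
  have hk' := hk _ (mem_zpowers _)
  rw [Sylow.coe_subtype, Subgroup.mem_subgroupOf] at hk'
  change (k : G) * e * (k : G)⁻¹ ∈ (S : Subgroup G) at hk'
  set e' : ↥(S : Subgroup G) := ⟨_, hk'⟩
  obtain ⟨q, hq⟩ := F.two_dvd
  have huA : e' ^ h ∈ F.A := by
    rw [show e' ^ h = (e' * e') ^ q by rw [← pow_two, ← pow_mul, ← hq]]
    refine pow_mem ?_ _
    exact Subgroup.mul_self_mem_of_index_two F.index_A e'
  set m0 : G := (k : G) * g with hm0
  have hu : ((e' ^ h : ↥(S : Subgroup G)) : G) = m0 * c * m0⁻¹ := by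
    rw [hcdef, ← hdh]
    push_cast
    show ((k : G) * e * (k : G)⁻¹) ^ h = _
    rw [hedef, show (k : G) * (g * (d : G) * g⁻¹) * (k : G)⁻¹ = m0 * (d : G) * m0⁻¹ by
      rw [hm0]; group, conj_pow]
  have hmw : m0 * (F.w : G) * m0⁻¹ = c := by
    rw [hm0, show (k : G) * g * (F.w : G) * ((k : G) * g)⁻¹ =
      (k : G) * (g * (F.w : G) * g⁻¹) * (k : G)⁻¹ by group, hg,
      mem_centralizer_singleton_iff.1 k.2, mul_inv_cancel_right]
  set P : Subgroup G := F.AG.map (MulAut.conj m0⁻¹).toMonoidHom with hP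
  have hmemP : ∀ a : ↥(S : Subgroup G), a ∈ F.A → m0⁻¹ * (a : G) * m0 ∈ P := fun a ha =>
    ⟨(a : G), ⟨a, ha, rfl⟩, by simp⟩
  have hPC : P ≤ C := by
    rintro _ ⟨_, ⟨a, ha, rfl⟩, rfl⟩
    rw [hCdef, mem_centralizer_singleton_iff]
    have h1 : (a : G) * ((e' ^ h : ↥(S : Subgroup G)) : G) =
        ((e' ^ h : ↥(S : Subgroup G)) : G) * a := congrArg Subtype.val (F.A_comm ha huA)
    rw [hu] at h1
    show m0⁻¹ * (a : G) * m0⁻¹⁻¹ * c = c * (m0⁻¹ * (a : G) * m0⁻¹⁻¹)
    calc m0⁻¹ * (a : G) * m0⁻¹⁻¹ * c = m0⁻¹ * ((a : G) * (m0 * c * m0⁻¹)) * m0 := by group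
      _ = m0⁻¹ * ((m0 * c * m0⁻¹) * a) * m0 := by rw [h1]
      _ = _ := by group
  obtain ⟨m, hm⟩ := exists_conjugator (A := P.subgroupOf C)
    ((F.isPGroup_AG.map _).of_equiv (subgroupOfEquivOfLe hPC).symm) (S.subtype hSC)
  have hm' : ∀ p ∈ P, (m : G) * p * (m : G)⁻¹ ∈ (S : Subgroup G) := fun p hp => by
    have := hm ⟨p, hPC hp⟩ (mem_subgroupOf.2 hp)
    rwa [Sylow.coe_subtype, Subgroup.mem_subgroupOf] at this
  have hwP : (F.w : G) ∈ P := by
    have := hmemP _ (F.el_mem h h)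
    rwa [show m0⁻¹ * (F.el h h : G) * m0 = F.w by rw [← hcdef, ← hmw]; group] at this
  obtain ⟨t, ht, htw⟩ := exists_conj_in_sylow (S := S) hI hco hcc m.2 F.w.2 (hm' _ hwP)
  -- the conjugate of `A` now centralises `w`
  let f : ↥F.A → {s : ↥(S : Subgroup G) // s * F.w = F.w * s} := fun a =>
    ⟨⟨t⁻¹ * ((m : G) * (m0⁻¹ * (a : G) * m0) * (m : G)⁻¹) * t,
      mul_mem (mul_mem (inv_mem ht) (hm' _ (hmemP a a.2))) ht⟩, Subtype.ext (by
      have h1 : ((a : ↥(S : Subgroup G)) : G) * c = c * (a : ↥(S : Subgroup G)) :=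
        hcc _ (a : ↥(S : Subgroup G)).2
      push_cast
      have hw1 : (F.w : G) = t⁻¹ * ((m : G) * (F.w : G) * (m : G)⁻¹) * t := by rw [htw]; group
      have hw2 : (F.w : G) = m0⁻¹ * c * m0 := by rw [← hmw]; group
      conv_lhs => rw [hw1, hw2]
      conv_rhs => rw [hw1, hw2]
      calc _ = t⁻¹ * ((m : G) * (m0⁻¹ * ((a : G) * c) * m0) * (m : G)⁻¹) * t := by group
        _ = t⁻¹ * ((m : G) * (m0⁻¹ * (c * (a : G)) * m0) * (m : G)⁻¹) * t := by rw [h1]
        _ = _ := by group)⟩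
  have hle := Nat.card_le_card_of_injective f fun a b e => by
    have h1 : t⁻¹ * ((m : G) * (m0⁻¹ * (a : G) * m0) * (m : G)⁻¹) * t =
        t⁻¹ * ((m : G) * (m0⁻¹ * (b : G) * m0) * (m : G)⁻¹) * t :=
      congrArg (fun s => ((Subtype.val s : ↥(S : Subgroup G)) : G)) e
    simp only [mul_left_inj, mul_right_inj] at h1
    exact Subtype.ext (Subtype.ext h1)
  have h1 := hle.trans F.card_centralizer_le
  rw [F.card_A] at h1
  have h2 : 2 ≤ h := Nat.le_of_dvd F.pos F.two_dvd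
  nlinarith

end Frame

theorem false_of_isWreathed [IsSimpleGroup G] (hG : ¬ IsMulCommutative G) (hI : InvCentNilp G)
    (hidx : ∀ N : Subgroup G, N.index ≠ 2) (hS : Cfsg.IsWreathed ↥(S : Subgroup G)) : False := by
  haveI : Fact (Nat.Prime 2) := ⟨Nat.prime_two⟩
  obtain ⟨n, hn, hcard, x, y, w, hx, hxy, hdisj, hw, hwx⟩ := hS
  obtain ⟨h, hh⟩ : ∃ h, h = 2 ^ (n - 1) := ⟨_, rfl⟩
  have hh2 : 2 * h = 2 ^ n := by rw [hh, ← pow_succ', Nat.sub_add_cancel (by omega)]
  have hw2 : w * w = 1 := by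
    have := pow_orderOf_eq_one w
    rwa [hw, pow_two] at this
  let F : Frame S h := ⟨x, y, w, hh ▸ dvd_pow_self 2 (by omega), hh ▸ Nat.two_pow_pos _,
    by rw [hcard, hh2, ← pow_add, ← pow_succ', two_mul], by rw [hx, hh2], hxy, hdisj, hw2,
    fun e => (by rw [e, orderOf_one] at hw; omega), hwx⟩
  have hpos := F.pos
  have hrel : F.AG.relIndex (S : Subgroup G) = 2 := by
    rw [Subgroup.relIndex, Frame.AG, subgroupOf,
      comap_map_eq_self_of_injective (S : Subgroup G).subtype_injective, F.index_A]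
  have hwo : orderOf (F.w : G) = 2 := by rw [Subgroup.orderOf_coe]; exact hw
  obtain ⟨g₀, hg₀⟩ := Fusion.Thompson.exists_conj_mem_maximal S F.AG (map_subtype_le _) hrel hidx
    _ hwo
  obtain ⟨a₀, ha₀A, ha₀⟩ := hg₀
  replace ha₀ : (a₀ : G) = g₀ * (F.w : G) * g₀⁻¹ := ha₀
  have ha₀2 : a₀ * a₀ = 1 := Subtype.ext (by
    rw [coe_mul, ha₀, show g₀ * (F.w : G) * g₀⁻¹ * (g₀ * (F.w : G) * g₀⁻¹) =
      g₀ * ((F.w * F.w : ↥(S : Subgroup G)) : G) * g₀⁻¹ by push_cast; group, F.sq]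
    simp)
  -- we may assume that `w` is conjugate to `el h 0`
  obtain ⟨g, hg⟩ : ∃ g, g * (F.w : G) * g⁻¹ = (F.el h 0 : G) := by
    rcases F.invol ha₀A ha₀2 with e | e | e | e
    · exfalso
      rw [e, coe_one] at ha₀
      exact F.ne_one (Subtype.ext (conj_eq_one_iff.1 ha₀.symm))
    · exact ⟨g₀, by rw [← ha₀, e]⟩
    · refine ⟨(F.w : G) * g₀, ?_⟩
      have h1 : F.w * F.el 0 h * F.w⁻¹ = F.el h 0 := by rw [F.w_el, mul_inv_cancel_right]
      rw [← h1, show (F.w : G) * g₀ * (F.w : G) * ((F.w : G) * g₀)⁻¹ =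
        (F.w : G) * (g₀ * (F.w : G) * g₀⁻¹) * (F.w : G)⁻¹ by group, ← ha₀, e]
      push_cast
      rfl
    · exact absurd (ha₀.symm.trans (congrArg Subtype.val e)) (F.not_conj_central hI g₀)
  set a : G := (F.el h 0 : G) with hadef
  set C := centralizer ({a} : Set G) with hC
  have hAC : F.AG ≤ C := by
    rintro _ ⟨s, hs, rfl⟩
    exact mem_centralizer_singleton_iff.2 (congrArg Subtype.val (F.A_comm hs (F.el_mem h 0)))
  obtain ⟨R, hR⟩ := (F.isPGroup_AG.of_equiv (subgroupOfEquivOfLe hAC).symm).exists_le_sylow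
  set Rm := (R : Subgroup ↥C).map C.subtype with hRm
  have hARm : F.AG ≤ Rm := fun s hs => ⟨⟨s, hAC hs⟩, hR (mem_subgroupOf.2 hs), rfl⟩
  have hRm2 : IsPGroup 2 ↥Rm := R.2.map _
  obtain ⟨r, hr⟩ := IsPGroup.iff_card.1 hRm2
  obtain ⟨Q, hQ⟩ := hRm2.exists_le_sylow
  have hrle : r ≤ 2 * n + 1 := by
    have h1 := card_le_of_le hQ
    rw [hr, Nat.card_congr (Q.equiv S).toEquiv, hcard] at h1
    exact (Nat.pow_le_pow_iff_right (by norm_num)).1 h1
  have hrge : 2 * n ≤ r := by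
    have h1 := card_le_of_le hARm
    rw [hr, F.card_AG, hh2, ← pow_add] at h1
    have := (Nat.pow_le_pow_iff_right (by norm_num)).1 h1
    omega
  rcases (by omega : r = 2 * n + 1 ∨ r = 2 * n) with rfl | rfl
  · have hRQ : Rm = (Q : Subgroup G) := eq_of_le_of_card_ge hQ
      (by rw [hr, Nat.card_congr (Q.equiv S).toEquiv, hcard])
    obtain ⟨u, rfl⟩ := MulAction.exists_smul_eq G S Q
    have hmem : ∀ s, s ∈ ((u • S : Sylow 2 G) : Subgroup G) ↔ u⁻¹ * s * u ∈ (S : Subgroup G) := by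
      intro s
      rw [Sylow.coe_subgroup_smul, mem_pointwise_smul_iff_inv_smul_mem]
      simp [MulAut.smul_def]
    have haS : u⁻¹ * a * u ∈ (S : Subgroup G) :=
      (hmem a).1 (hRQ ▸ hARm ⟨_, F.el_mem h 0, rfl⟩)
    have ha2 : a * a = 1 := by
      rw [hadef, ← coe_mul, F.el_mul, F.el_mod, ← two_mul, Nat.mod_self]
      simp [Frame.el]
    have hc : (⟨_, haS⟩ : ↥(S : Subgroup G)) = F.el h h := by
      refine F.eq_of_central (fun e => ?_) (Subtype.ext ?_) fun s => Subtype.ext ?_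
      · have h0 : u⁻¹ * a * u⁻¹⁻¹ = 1 := by rw [inv_inv]; exact congrArg Subtype.val e
        rw [conj_eq_one_iff, ← hg] at h0
        exact F.ne_one (Subtype.ext (conj_eq_one_iff.1 h0))
      · show u⁻¹ * a * u * (u⁻¹ * a * u) = 1
        calc u⁻¹ * a * u * (u⁻¹ * a * u) = u⁻¹ * (a * a) * u := by group
          _ = 1 := by rw [ha2]; group
      · show (s : G) * (u⁻¹ * a * u) = u⁻¹ * a * u * s
        have h1 : u * (s : G) * u⁻¹ ∈ C :=
          (map_subtype_le (R : Subgroup ↥C)) (hRQ.ge ((hmem _).2 (by simpa [mul_assoc] using s.2)))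
        calc (s : G) * (u⁻¹ * a * u) = u⁻¹ * (u * s * u⁻¹ * a) * u := by group
          _ = u⁻¹ * (a * (u * s * u⁻¹)) * u := by rw [mem_centralizer_singleton_iff.1 h1]
          _ = _ := by group
    refine F.not_conj_central hI (u⁻¹ * g) ?_
    rw [show u⁻¹ * g * (F.w : G) * (u⁻¹ * g)⁻¹ = u⁻¹ * (g * (F.w : G) * g⁻¹) * u by group, hg, ← hc]
  · have hRA : F.AG = Rm := eq_of_le_of_card_ge hARm
      (by rw [hr, F.card_AG, hh2, ← pow_add]; exact (congrArg (2 ^ ·) (two_mul n)).le)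
    set d : ↥(S : Subgroup G) := F.el 1 1
    have hdw : d * F.w = F.w * d := (F.w_el 1 1).symm
    set e : G := g * (d : G) * g⁻¹ with hedef
    have heC : e ∈ C := by
      rw [hC, mem_centralizer_singleton_iff, ← hg, hedef]
      calc g * (d : G) * g⁻¹ * (g * (F.w : G) * g⁻¹)
          = g * ((d * F.w : ↥(S : Subgroup G)) : G) * g⁻¹ := by push_cast; group
        _ = g * ((F.w * d : ↥(S : Subgroup G)) : G) * g⁻¹ := by rw [hdw]
        _ = _ := by push_cast; group
    obtain ⟨k, hk⟩ := exists_conjugator (A := zpowers (⟨e, heC⟩ : ↥C))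
      (by
        obtain ⟨l, hl⟩ := IsPGroup.iff_orderOf.1 S.2 d
        refine IsPGroup.of_card (n := l) ?_
        rw [Nat.card_zpowers, Subgroup.orderOf_mk, hedef,
          show orderOf (g * (d : G) * g⁻¹) = orderOf (d : G) from
            MulEquiv.orderOf_eq (MulAut.conj g) _, Subgroup.orderOf_coe, hl]) R
    obtain ⟨e', he'A, he'⟩ : (k : G) * e * (k : G)⁻¹ ∈ F.AG :=
      hRA.ge ⟨_, hk _ (mem_zpowers _), rfl⟩
    set g1 : G := (k : G) * g with hg1
    have hgw : g1 * (F.w : G) * g1⁻¹ = a := by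
      rw [hg1, show (k : G) * g * (F.w : G) * ((k : G) * g)⁻¹ =
        (k : G) * (g * (F.w : G) * g⁻¹) * (k : G)⁻¹ by group, hg,
        mem_centralizer_singleton_iff.1 k.2, mul_inv_cancel_right]
    have hu : ((e' ^ h : ↥(S : Subgroup G)) : G) = g1 * (F.el h h : G) * g1⁻¹ := by
      have hdh : d ^ h = F.el h h := by rw [F.el_pow, one_mul]
      rw [← hdh]
      push_cast
      rw [show (e' : G) = (k : G) * e * (k : G)⁻¹ from he', hedef,
        show (k : G) * (g * (d : G) * g⁻¹) * (k : G)⁻¹ = g1 * (d : G) * g1⁻¹ by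
          rw [hg1]; group, conj_pow]
    have hu2 : e' ^ h * e' ^ h = 1 := Subtype.ext (by
      rw [coe_mul, hu, show g1 * (F.el h h : G) * g1⁻¹ * (g1 * (F.el h h : G) * g1⁻¹) =
        g1 * ((F.el h h * F.el h h : ↥(S : Subgroup G)) : G) * g1⁻¹ by push_cast; group,
        F.el_mul, F.el_mod, ← two_mul, Nat.mod_self]
      simp [Frame.el])
    rcases F.invol (pow_mem he'A h) hu2 with eu | eu | eu | eu <;> rw [eu] at hu
    · exact F.el_hh_ne (Subtype.ext (conj_eq_one_iff.1 (hu.symm.trans (Subgroup.coe_one _))))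
    · have h1 : (F.el h h : G) = F.w := by
        have h2 : g1 * (F.el h h : G) * g1⁻¹ = g1 * (F.w : G) * g1⁻¹ := by rw [hgw, ← hu]
        simpa using h2
      exact F.w_notMem (Subtype.ext h1 ▸ F.el_mem h h)
    · refine F.not_conj_central hI (g1 * (F.el h 0 : G)) ?_
      have hwc : F.el h 0 * F.w * (F.el h 0)⁻¹ = F.w * F.el h h := by
        have hi : (F.el h 0)⁻¹ = F.el h 0 := inv_eq_of_mul_eq_one_right (by
          rw [F.el_mul, F.el_mod, ← two_mul, Nat.mod_self]; simp [Frame.el])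
        rw [hi, mul_assoc, F.w_el, ← mul_assoc, F.el_mul, Nat.add_zero, Nat.zero_add, F.w_el]
      calc g1 * (F.el h 0 : G) * (F.w : G) * (g1 * (F.el h 0 : G))⁻¹
          = g1 * ((F.el h 0 * F.w * (F.el h 0)⁻¹ : ↥(S : Subgroup G)) : G) * g1⁻¹ := by
            push_cast; group
        _ = g1 * (F.w : G) * g1⁻¹ * (g1 * (F.el h h : G) * g1⁻¹) := by
            rw [hwc]; push_cast; group
        _ = ((F.el h 0 * F.el 0 h : ↥(S : Subgroup G)) : G) := by
            rw [hgw, ← hu]; push_cast; rfl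
        _ = (F.el h h : G) := by rw [F.el_mul, Nat.add_zero, Nat.zero_add]
    · obtain ⟨t, ht, htw⟩ := exists_conj_in_sylow (S := S) hI F.orderOf_hh
        (fun s hs => congrArg Subtype.val (F.central ⟨s, hs⟩)) (c := g1) (s := (F.w : G))
        (mem_centralizer_singleton_iff.2 (mul_inv_eq_iff_eq_mul.1 hu.symm)) F.w.2
        (by rw [hgw]; exact (F.el h 0).2)
      have h1 : (⟨t, ht⟩ : ↥(S : Subgroup G)) * F.w * ⟨t, ht⟩⁻¹ = F.el h 0 :=
        Subtype.ext (htw.symm.trans hgw)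
      have h2 := F.el_mem h 0
      rw [← h1] at h2
      simp only [Subgroup.mul_mem_iff_of_index_two F.index_A, inv_mem_iff] at h2
      exact F.w_notMem (by tauto)

end Cfsg.Agent.Lib.CNilp98.Wreathed
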