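import Cfsg.Agent.Lib.CNilp98.RankGeThree
import Cfsg.Agent.Lib.CNilp98.QuasiDihedral
import Cfsg.Agent.Lib.CNilp98.Wreathed
import Cfsg.Agent.Lib.U34Type98.Main
import Cfsg.Agent.Lib.GorensteinWalter.Wiring
import Cfsg.Agent.S0516
import Cfsg.Agent.S1248

/-!
# 2-rank at most two
-/

set_option autoImplicit false
set_option linter.style.haveILetI false

namespace Cfsg.Agent.Lib.CNilp98

open Subgroup

universe u

variable {G : Type u} [Group G] [Finite G]

/-- The data of a Sylow 2-subgroup of type `U₃(4)`. -/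
theorem data_of_iso (hI : InvCentNilp G) {S : Sylow 2 G} {F : Type} [Field F] [Fintype F]
    (hF : Fintype.card F = 16) {P : Sylow 2 (Cfsg.PSU 3 F 4)}
    (e : (S : Subgroup G) ≃* (P : Subgroup (Cfsg.PSU 3 F 4))) : U34Type98.Data S := by
  obtain ⟨C⟩ := Fusion.U34Sylow.exists_coords hF P
  let C' : Fusion.U34Sylow.Coords F ↥(S : Subgroup G) :=
    ⟨C.equiv.trans e.symm.toEquiv, fun p r => by
      obtain ⟨h, hh⟩ := C.mul p r
      refine ⟨h, ?_⟩
      show e.symm (C.equiv p) * e.symm (C.equiv r) = e.symm (C.equiv _)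
      rw [← map_mul, hh]⟩
  obtain ⟨h64, hK, hcl, hcomm, -, hsq⟩ := Cfsg.Agent.S1248.structure_of_coords hF C'
  have hz2 : ∀ z ∈ center ↥(S : Subgroup G), z * z = 1 := fun z hz =>
    congrArg Subtype.val (IsKleinFour.mul_self (⟨z, hz⟩ : ↥(center ↥(S : Subgroup G))))
  refine ⟨hI, h64, hK.card_four, hcomm.symm, hz2, fun x => ?_, fun x hx => ?_⟩
  · have h := hsq (QuotientGroup.mk x)
    rwa [pow_two, ← QuotientGroup.mk_mul, QuotientGroup.eq_one_iff] at h
  · rcases eq_or_ne x 1 with rfl | hx1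
    · exact one_mem _
    haveI : Fact (Nat.Prime 2) := ⟨Nat.prime_two⟩
    rw [hcl]
    exact subset_closure (orderOf_eq_prime (by rw [pow_two]; exact hx) hx1)

/-- **2-rank at most two**, given the main proposition of the Gorenstein–Walter theorem. -/
theorem rankLeTwo [IsSimpleGroup G] (hGW : GorensteinWalter.PropMain.{u})
    (hG : ¬ IsMulCommutative G) (hI : InvCentNilp G) (h2 : Cfsg.PRankLE 2 2 G) :
    Conclusion G := by
  haveI : Fact (Nat.Prime 2) := ⟨Nat.prime_two⟩
  haveI : Fintype (GaloisField 2 4) := Fintype.ofFinite _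
  have hF : Fintype.card (GaloisField 2 4) = 16 := by
    rw [← Nat.card_eq_fintype_card, GaloisField.card 2 4 (by norm_num)]
    norm_num
  obtain ⟨P⟩ : Nonempty (Sylow 2 (Cfsg.PSU 3 (GaloisField 2 4) 4)) := inferInstance
  have hidx := FTDeps.Row0516.index_ne_two hG
  by_cases hD : GorensteinWalter.HasDihedralSylow G
  · rcases GorensteinWalter.known_of_propMain hGW G ‹_› hG hD with
      ⟨F, iF, iT, -, h3, he⟩ | h7
    · exact Or.inl ⟨F, iF, iT, h3, he⟩
    · exact Or.inr (Or.inr (Or.inl h7))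
  exfalso
  refine hD fun S => ?_
  rcases Cfsg.Agent.S0516.result hG h2 S hF P with h | h | h | ⟨⟨e⟩⟩
  · exact h
  · exact (QuasiDihedral.false_of_isQuasiDihedral hG hI h).elim
  · exact (Wreathed.false_of_isWreathed hG hI hidx h).elim
  · exact (U34Type98.Main.not_simple hG (data_of_iso hI hF e)).elim

end Cfsg.Agent.Lib.CNilp98
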